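import Cfsg.Agent.H326.HT.TwESix
import Cfsg.Agent.H631.HT.MemOne
import Cfsg.Agent.H781.RatTE6.RowA

/-!
# S4933, exceptional rows: `²E₆(q)`, `p = 3` dividing `q - 1` (helper326)

* `exists_mu` : one certificate: multiplicity one and the degree;
* `twE6_split` : `p ∣ q - 1`, `p` odd: one certificate gives everything;
* `udata_three_split` : `3 ∣ q - 1`, the constituent of degree `q³ Φ₃² Φ₈ Φ₁₀ Φ₁₈ / 2`, `v_3 = 2`;
-/

set_option autoImplicit false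
set_option linter.unusedSectionVars false
set_option maxRecDepth 20000

namespace Cfsg.Agent.H326.HT

open Cfsg Cfsg.Agent.H967.Sph Cfsg.Agent.H317.PQ Cfsg.Agent.Blocks.Basic Cfsg.Agent.Blocks.Local Cfsg.Agent.H64.Dl.Sph
  Cfsg.Agent.H996.Eight Cfsg.Agent.H996.Eight.Cert Cfsg.Agent.H996.PQ
open CoxeterSystem Cfsg.Agent.ChevalleyStructure.CoxeterGeom Cfsg.Agent.Tits.Roots Cfsg.Agent.Tits.Core
  Cfsg.Agent.Nodes.Reps Cfsg.Agent.Nodes.BNOf Cfsg.Agent.Nodes.Bruhat Cfsg.Agent.Nodes.LeviDec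
open Cfsg.Lie Cfsg.Agent.H35.ExcIdx Cfsg.Agent.Nodes Cfsg.Agent.H116.StAut

universe u

section Cert

variable {I W : Type*} {Y : Type u} [Fintype I] [DecidableEq I] [Group W] [Finite W] [Group Y] [Finite Y]
    {M : CoxeterMatrix I} {cs : CoxeterSystem M W} {A : I → I → ℤ} {h : IsCartan M A} {p : ℕ} {T : Subgroup Y}
    {n : I → Y} {X : (I → ℤ) → Subgroup Y} (R : RGD cs h p T n X) (hG : GG cs h T X = ⊤)

include R hG in
/-- **One certificate**: multiplicity and degree. -/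
theorem exists_mu {A' : I → I → ℤ} (hA : A = A') {j : I} {N m : ℕ} (D : Data A' j N m) {x : ℕ} (hx : 2 ≤ x)
    (hq : ∀ i, Nat.card (X (sr i)) = x ^ D.e i) (C : Crt m) {o : Fin m} (ho : D.t.cls D.t.o = o)
    (hC : C.ok o D.bb D.kk) (hD : pDvd C.den C.dn) :
    ∃ ψ : IrrCharacter Y, H319.PQ.mu (PJ cs h T X {i | i ≠ j}) (ψ : Y → ℂ) = 1 ∧
      charDegree (ψ : Y → ℂ) = val C.den C.dn x := by
  subst hA
  subst ho
  obtain ⟨χ, H⟩ := exists_crt R hG D hx hq C (ok1_of_ok hC) (uq_of_ok hC) hD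
  refine ⟨⟨χ, H.irr⟩, mu_one R hG H, ?_⟩
  have h9 := Blocks.Basic.irr_one_eq_charDegree (⟨χ, H.irr⟩ : IrrCharacter Y).2
  have h10 : (χ 1 : ℂ) = (val C.den C.dn x : ℂ) := H.one
  have h11 : ((charDegree ((⟨χ, H.irr⟩ : IrrCharacter Y) : Y → ℂ) : ℕ) : ℂ) = (val C.den C.dn x : ℂ) :=
    h9.symm.trans h10
  exact_mod_cast h11

end Cert

/-- **`²E₆(q)`, `p ∣ q - 1`: one certificate gives everything.** -/
theorem twE6_split {K : Type u} [Field K] [Fintype K] {x : ℕ} (hq : IsPrimePow x) (hK : Fintype.card K = x ^ 2)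
    (C : Crt 5) {o : Fin 5} (ho : TabTwEa.data.t.cls TabTwEa.data.t.o = o) (hC : C.ok o TabTwEa.data.bb TabTwEa.data.kk)
    (hD : pDvd C.den C.dn) {p : ℕ} (hp : p.Prime) (hp2 : p ≠ 2) (hd : p ∣ x - 1) :
    ∃ (H : Subgroup ↥(twistedE6 K x)) (ψ : IrrCharacter ↥(twistedE6 K x)),
      H319.PQ.mu H (ψ : ↥(twistedE6 K x) → ℂ) = 1 ∧
      (∀ M, IsPModular p M → ψ ∈ principalBlock M ↥(twistedE6 K x)) ∧
      charDegree (ψ : ↥(twistedE6 K x) → ℂ) = val C.den C.dn x ∧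
      ∀ a : MulAut ↥(twistedE6 K x),
        (∃ s, H.map (a : ↥(twistedE6 K x) ≃* ↥(twistedE6 K x)).toMonoidHom = H.map (MulAut.conj s).toMonoidHom) ∧
          ∀ y, (ψ : ↥(twistedE6 K x) → ℂ) (a y) = (ψ : ↥(twistedE6 K x) → ℂ) y := by
  classical
  obtain ⟨r, φ, hφ, hr, hW, hS, R, hG, hsz⟩ := exists_rgd hq hK
  have : Fact r.Prime := ⟨hr⟩
  have : Fact p.Prime := ⟨hp⟩
  have := Fintype.ofFinite ↥(twistedE6 K x)
  have h2 : 2 ≤ x := hq.two_le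
  obtain ⟨ψ, h4, h5⟩ := exists_mu R hG FullTwEa.hA TabTwEa.data h2 (fun i => by rw [hsz, size_TwE6]) C ho hC hD
  refine ⟨_, ψ, h4, ?_, h5, fun a => inv_ud R hG _ h4 a (typ_one_TwE6 h2 R hG hsz a)⟩
  intro M hM
  have hq1 : 1 ≤ x := by omega
  have hpu : p ∣ Nat.card Kˣ := by
    rw [Nat.card_units, Nat.card_eq_fintype_card, hK]
    have e : x ^ 2 - 1 = (x - 1) * (x + 1) := by
      obtain ⟨y, hy⟩ := Nat.exists_eq_add_of_le hq1
      rw [hy, Nat.add_sub_cancel_left]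
      apply Nat.sub_eq_of_eq_add
      ring
    rw [e]
    exact hd.mul_right _
  obtain ⟨z, hz⟩ := exists_prime_orderOf_dvd_card' p hpu
  have hz1 : IsPrimitiveRoot (z : K) p := by
    rw [IsPrimitiveRoot.coe_units_iff, ← hz]
    exact IsPrimitiveRoot.orderOf z
  have hzq : (z : K) ^ x = z := by
    obtain ⟨m, hm⟩ := hd
    have e : x = p * m + 1 := by omega
    rw [e, pow_succ, pow_mul, hz1.pow_eq_one, one_pow, one_mul]
  refine H631.HT.mem_one R hG hM (H781.RatTE6.isPGroup_tor (K := K) (q := x) p) (fun t ht => ht.1)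
    (H781.RatTE6.cent_tor hφ hp hp2 hz1 hzq) {i | i ≠ 0} ψ ?_
  intro h7
  exact one_ne_zero ((ip_one h4).symm.trans h7)

/-- the exponent two -/
theorem fac_two {p n : ℕ} (hp : p.Prime) (h1 : (p : ℤ) ^ 2 ∣ n) (h2 : ¬ ((p : ℤ) ^ 3) ∣ n) : n.factorization p = 2 := by
  have h0 : n ≠ 0 := by
    rintro rfl
    exact h2 (by simp)
  have h3 : p ^ 2 ∣ n := Int.natCast_dvd_natCast.1 (by exact_mod_cast h1)
  have h4 : ¬ p ^ 3 ∣ n := fun h => h2 (by exact_mod_cast Int.natCast_dvd_natCast.2 h)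
  rw [hp.pow_dvd_iff_le_factorization h0] at h3 h4
  omega

theorem deg_four (x : ℤ) (h : (3 : ℤ) ∣ x - 1) (d : ℤ)
    (hd : 2 * d = x ^ 3 * (x ^ 2 + x + 1) ^ 2 * (x ^ 4 + 1) * (x ^ 4 - x ^ 3 + x ^ 2 - x + 1) * (x ^ 6 - x ^ 3 + 1)) :
    (3 : ℤ) ^ 2 ∣ d ∧ ¬ (3 : ℤ) ^ 3 ∣ d := by
  have key : ∀ y : ZMod 27, (9 : ZMod 27) * (y - 1) = 0 →
      (3 : ZMod 27) * (y ^ 3 * (y ^ 2 + y + 1) ^ 2 * (y ^ 4 + 1) * (y ^ 4 - y ^ 3 + y ^ 2 - y + 1) * (y ^ 6 - y ^ 3 + 1)) = 0 ∧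
      y ^ 3 * (y ^ 2 + y + 1) ^ 2 * (y ^ 4 + 1) * (y ^ 4 - y ^ 3 + y ^ 2 - y + 1) * (y ^ 6 - y ^ 3 + 1) ≠ 0 := by
    decide +kernel
  have h0 : (9 : ZMod 27) * ((x : ZMod 27) - 1) = 0 := by
    have h1 : ((9 * (x - 1) : ℤ) : ZMod 27) = 0 := by
      rw [ZMod.intCast_zmod_eq_zero_iff_dvd]
      obtain ⟨z, hz⟩ := h
      exact ⟨z, by rw [hz]; push_cast; ring⟩
    push_cast at h1
    exact h1
  have h1 := key (x : ZMod 27) h0
  constructor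
  · have h2 : ((3 * (x ^ 3 * (x ^ 2 + x + 1) ^ 2 * (x ^ 4 + 1) * (x ^ 4 - x ^ 3 + x ^ 2 - x + 1) *
        (x ^ 6 - x ^ 3 + 1)) : ℤ) : ZMod 27) = 0 := by
      push_cast
      exact h1.1
    obtain ⟨z, hz⟩ := (ZMod.intCast_zmod_eq_zero_iff_dvd _ 27).1 h2
    push_cast at hz
    have h3 : 2 * d = 9 * z := by linarith
    omega
  · intro h2
    apply h1.2
    have h3 : ((x ^ 3 * (x ^ 2 + x + 1) ^ 2 * (x ^ 4 + 1) * (x ^ 4 - x ^ 3 + x ^ 2 - x + 1) *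
        (x ^ 6 - x ^ 3 + 1) : ℤ) : ZMod 27) = 0 := by
      rw [ZMod.intCast_zmod_eq_zero_iff_dvd, ← hd]
      push_cast
      exact Dvd.dvd.mul_left (by exact_mod_cast h2) _
    push_cast at h3
    exact h3

/-- **`²E₆(q)`, `3 ∣ q - 1`.** -/
theorem udata_three_split {K : Type u} [Field K] [Fintype K] {x : ℕ} (hq : IsPrimePow x)
    (hK : Fintype.card K = x ^ 2) (h3 : 3 ∣ x - 1) :
    ∃ (H : Subgroup ↥(twistedE6 K x)) (ψ : IrrCharacter ↥(twistedE6 K x)),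
      H319.PQ.mu H (ψ : ↥(twistedE6 K x) → ℂ) = 1 ∧
      (∀ M, IsPModular 3 M → ψ ∈ principalBlock M ↥(twistedE6 K x)) ∧
      H316.HT.vd 3 (ψ : ↥(twistedE6 K x) → ℂ) = 2 ∧
      ∀ a : MulAut ↥(twistedE6 K x),
        (∃ s, H.map (a : ↥(twistedE6 K x) ≃* ↥(twistedE6 K x)).toMonoidHom = H.map (MulAut.conj s).toMonoidHom) ∧
          ∀ y, (ψ : ↥(twistedE6 K x) → ℂ) (a y) = (ψ : ↥(twistedE6 K x) → ℂ) y := by
  obtain ⟨H, ψ, h1, h2, h5, h4⟩ := twE6_split hq hK TabTwEa.c4 rfl TabTwEa.ok4 TabTwEa.dvd4 Nat.prime_three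
    (by norm_num) h3
  refine ⟨H, ψ, h1, h2, ?_, h4⟩
  rw [H316.HT.vd, h5]
  have h7 := deg_polOf' TabTwEa.ok4 TabTwEa.dvd4 hq.two_le
  have h8 : evZ (x : ℤ) TabTwEa.c4.dn = _ := FullTwEa.evdn4 (x : ℤ)
  have hx1 : 1 ≤ x := by have := hq.two_le; omega
  have h6 : (3 : ℤ) ∣ (x : ℤ) - 1 := by
    have h9 := Int.natCast_dvd_natCast.2 h3
    rwa [Nat.cast_sub hx1] at h9
  have h9 := deg_four (x : ℤ) h6 ((val TabTwEa.c4.den TabTwEa.c4.dn x : ℕ) : ℤ) (by rw [← h8, ← h7]; rfl)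
  exact fac_two Nat.prime_three h9.1 h9.2

end Cfsg.Agent.H326.HT
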